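import Mathlib.RingTheory.Localization.BaseChange
import Mathlib.RingTheory.TensorProduct.Maps
import Mathlib.Algebra.Module.LocalizedModule.Int
import Mathlib.Algebra.Module.LocalizedModule.IsLocalization
import Mathlib.LinearAlgebra.Matrix.NonsingularInverse

/-!
# Congruences of hermitian matrices descend from a localization

A congruence between two matrices over `A`, defined after tensoring with a localization `Y` of a
`B`-algebra `X`, is already defined over every `X`-algebra in which one suitable element of the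
multiplicative set is invertible.
-/

set_option autoImplicit false

universe u v w

open scoped TensorProduct

namespace Groth.Agent.HermSpread

variable {B : Type u} {A : Type v} [CommRing B] [CommRing A] [Algebra B A] (lam : A ≃ₐ[B] A)

/-- The matrices related by an invertible congruence after tensoring with `C`. -/
def Congr (C : Type w) [CommRing C] [Algebra B C] {n : ℕ} (h h' : Matrix (Fin n) (Fin n) A) : Prop :=
  ∃ v : Matrix (Fin n) (Fin n) (C ⊗[B] A), IsUnit v ∧
    (v.map (Algebra.TensorProduct.congr (AlgEquiv.refl : C ≃ₐ[C] C) lam)).transpose *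
      h.map (Algebra.TensorProduct.includeRight : A →ₐ[B] C ⊗[B] A) * v =
        h'.map (Algebra.TensorProduct.includeRight : A →ₐ[B] C ⊗[B] A)

variable {X : Type u} {Y : Type u} [CommRing X] [CommRing Y] [Algebra B X] [Algebra B Y]
  (θ : X →ₐ[B] Y) (M : Submonoid B) [IsLocalizedModule M θ.toLinearMap]

/-- `θ` tensored with the identity of `A`. -/
noncomputable abbrev tmap (A : Type v) [CommRing A] [Algebra B A] : X ⊗[B] A →ₐ[B] Y ⊗[B] A :=
  Algebra.TensorProduct.map θ (AlgHom.id B A)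

include θ in
theorem isLocalizedModule_tmap : IsLocalizedModule M (tmap θ A).toLinearMap := by
  have := IsLocalizedModule.rTensor (R := B) (A := B) (N := A) (S := M) θ.toLinearMap
  exact this

theorem congr_tmap {C : Type u} [CommRing C] [Algebra B C] (ψ : X →ₐ[B] C) (z : X ⊗[B] A) :
    Algebra.TensorProduct.congr (AlgEquiv.refl : C ≃ₐ[C] C) lam (tmap ψ A z) =
      tmap ψ A (Algebra.TensorProduct.congr (AlgEquiv.refl : X ≃ₐ[X] X) lam z) := by
  induction z using TensorProduct.induction_on with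
  | zero => simp
  | tmul x a => simp
  | add x y hx hy => rw [map_add, map_add, map_add, map_add, hx, hy]

include θ in
theorem exists_congr_descend {n : ℕ} (h h' : Matrix (Fin n) (Fin n) A) (hY : Congr lam Y h h') :
    ∃ m ∈ M, ∀ (C : Type u) [CommRing C] [Algebra B C] (_ψ : X →ₐ[B] C),
      IsUnit (algebraMap B C m) → Congr lam C h h' := by
  classical
  obtain ⟨v, hv, he⟩ := hY
  obtain ⟨⟨v, w, hvw, hwv⟩, rfl⟩ := hv
  change (v.map _).transpose * _ * v = _ at he
  haveI := isLocalizedModule_tmap (A := A) θ M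
  let Θ := tmap θ A
  obtain ⟨m₁, hm₁⟩ := IsLocalizedModule.exist_integer_multiples_of_finite M Θ.toLinearMap
    (fun ij : Fin n × Fin n => v ij.1 ij.2)
  obtain ⟨m₂, hm₂⟩ := IsLocalizedModule.exist_integer_multiples_of_finite M Θ.toLinearMap
    (fun ij : Fin n × Fin n => w ij.1 ij.2)
  choose v₀ hv₀ using hm₁
  choose w₀ hw₀ using hm₂
  let V : Matrix (Fin n) (Fin n) (X ⊗[B] A) := fun i j => v₀ (i, j)
  let W : Matrix (Fin n) (Fin n) (X ⊗[B] A) := fun i j => w₀ (i, j)
  have eV : V.map Θ = (m₁ : B) • v := by ext i j; exact hv₀ (i, j)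
  have eW : W.map Θ = (m₂ : B) • w := by ext i j; exact hw₀ (i, j)
  let conjX : X ⊗[B] A → X ⊗[B] A := Algebra.TensorProduct.congr (AlgEquiv.refl : X ≃ₐ[X] X) lam
  let hX : ∀ g : Matrix (Fin n) (Fin n) A, Matrix (Fin n) (Fin n) (X ⊗[B] A) := fun g =>
    g.map (Algebra.TensorProduct.includeRight : A →ₐ[B] X ⊗[B] A)
  have hXC : ∀ (C : Type u) [CommRing C] [Algebra B C] (ψ : X →ₐ[B] C) (g : Matrix (Fin n) (Fin n) A),
      (hX g).map (tmap ψ A) = g.map (Algebra.TensorProduct.includeRight : A →ₐ[B] C ⊗[B] A) := by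
    intro C _ _ ψ g; ext i j; simp [hX]
  have hconj : ∀ (C : Type u) [CommRing C] [Algebra B C] (ψ : X →ₐ[B] C)
      (Z : Matrix (Fin n) (Fin n) (X ⊗[B] A)),
      ((Z.map conjX).transpose * hX h * Z).map (tmap ψ A) =
        ((Z.map (tmap ψ A)).map (Algebra.TensorProduct.congr (AlgEquiv.refl : C ≃ₐ[C] C) lam)).transpose *
          h.map (Algebra.TensorProduct.includeRight : A →ₐ[B] C ⊗[B] A) * Z.map (tmap ψ A) := by
    intro C _ _ ψ Z
    rw [Matrix.map_mul, Matrix.map_mul, hXC C ψ h, Matrix.transpose_map]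
    congr 2
    ext i j
    exact (congr_tmap lam ψ (Z j i)).symm
  have kill : ∀ P Q : Matrix (Fin n) (Fin n) (X ⊗[B] A), P.map Θ = Q.map Θ →
      ∃ c ∈ M, c • P = c • Q := by
    intro P Q e
    choose c hc using fun ij : Fin n × Fin n =>
      IsLocalizedModule.exists_of_eq (S := M) (f := Θ.toLinearMap) (congrFun (congrFun e ij.1) ij.2)
    refine ⟨∏ ij, (c ij : B), Submonoid.prod_mem _ fun ij _ => (c ij).2, ?_⟩
    ext i j
    obtain ⟨d, hd⟩ := Finset.dvd_prod_of_mem (fun ij => (c ij : B)) (Finset.mem_univ (i, j))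
    simp only [Matrix.smul_apply]
    rw [hd, mul_comm, mul_smul, mul_smul]
    exact congrArg (d • ·) (hc (i, j))
  obtain ⟨c₁, hc₁, e₁⟩ := kill (V * W) (((m₁ : B) * m₂) • 1) (by
    rw [Matrix.map_mul, eV, eW, Matrix.smul_mul, Matrix.mul_smul, hvw, smul_smul]
    ext i j
    simp only [Matrix.map_apply, Matrix.smul_apply, map_smul, Matrix.one_apply]
    split_ifs <;> simp)
  obtain ⟨c₂, hc₂, e₂⟩ := kill ((V.map conjX).transpose * hX h * V) (((m₁ : B) * m₁) • hX h') (by
    rw [hconj Y θ, eV]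
    have e : ((m₁ : B) • v).map (Algebra.TensorProduct.congr (AlgEquiv.refl : Y ≃ₐ[Y] Y) lam) =
        (m₁ : B) • v.map (Algebra.TensorProduct.congr (AlgEquiv.refl : Y ≃ₐ[Y] Y) lam) := by
      ext i j
      exact map_smul ((Algebra.TensorProduct.congr (AlgEquiv.refl : Y ≃ₐ[Y] Y) lam).toAlgHom.restrictScalars B) _ _
    rw [e, Matrix.transpose_smul, Matrix.smul_mul, Matrix.smul_mul, Matrix.mul_smul, he, smul_smul,
      ← hXC Y θ h']
    ext i j
    simp [Θ])
  refine ⟨m₁ * m₂ * c₁ * c₂, M.mul_mem (M.mul_mem (M.mul_mem m₁.2 m₂.2) hc₁) hc₂,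
    fun C _ _ ψ hu => ?_⟩
  simp only [map_mul, IsUnit.mul_iff] at hu
  obtain ⟨⟨⟨hu₁, hu₂⟩, hd₁⟩, hd₂⟩ := hu
  have cancel : ∀ {c : B}, IsUnit (algebraMap B C c) → ∀ {P Q : Matrix (Fin n) (Fin n) (X ⊗[B] A)},
      c • P = c • Q → P.map (tmap ψ A) = Q.map (tmap ψ A) := by
    intro c hc P Q e
    have hc' : IsUnit (algebraMap B (C ⊗[B] A) c) := by
      rw [IsScalarTower.algebraMap_apply B C (C ⊗[B] A)]; exact hc.map _
    ext i j
    have := congrArg (tmap ψ A) (congrFun (congrFun e i) j)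
    simp only [Matrix.smul_apply, Algebra.smul_def, map_mul, AlgHom.commutes] at this
    exact hc'.mul_left_cancel this
  have E₁ := cancel hd₁ e₁
  have E₂ := cancel hd₂ e₂
  rw [Matrix.map_mul] at E₁
  rw [hconj C ψ] at E₂
  obtain ⟨d, hd⟩ := hu₁.exists_left_inv
  let δ : C ⊗[B] A := d ⊗ₜ 1
  have hδ : δ * algebraMap B (C ⊗[B] A) m₁ = 1 := by
    rw [IsScalarTower.algebraMap_apply B C (C ⊗[B] A), Algebra.TensorProduct.algebraMap_apply]
    simp [δ, hd, Algebra.TensorProduct.one_def]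
  refine ⟨δ • V.map (tmap ψ A), ?_, ?_⟩
  · rw [Matrix.isUnit_iff_isUnit_det, Matrix.det_smul]
    refine ((IsUnit.of_mul_eq_one _ hδ).pow _).mul ?_
    refine isUnit_of_mul_isUnit_left (y := (W.map (tmap ψ A)).det) ?_
    rw [← Matrix.det_mul, E₁]
    rw [← Matrix.isUnit_iff_isUnit_det]
    have hh : IsUnit (algebraMap B (C ⊗[B] A) ((m₁ : B) * m₂)) := by
      rw [IsScalarTower.algebraMap_apply B C (C ⊗[B] A)]
      exact (((map_mul (algebraMap B C) _ _).symm ▸ hu₁.mul hu₂ : IsUnit (algebraMap B C ((m₁ : B) * m₂)))).map _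
    have : (((m₁ : B) * m₂) • (1 : Matrix (Fin n) (Fin n) (X ⊗[B] A))).map (tmap ψ A) =
        algebraMap (C ⊗[B] A) (Matrix (Fin n) (Fin n) (C ⊗[B] A)) (algebraMap B (C ⊗[B] A) ((m₁ : B) * m₂)) := by
      ext i j
      simp only [Matrix.map_apply, Matrix.smul_apply, map_smul, Matrix.one_apply, Matrix.algebraMap_matrix_apply]
      split_ifs <;> simp [Algebra.smul_def]
    rw [this]
    exact hh.map _
  · have e : (δ • V.map (tmap ψ A)).map (Algebra.TensorProduct.congr (AlgEquiv.refl : C ≃ₐ[C] C) lam) =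
        δ • (V.map (tmap ψ A)).map (Algebra.TensorProduct.congr (AlgEquiv.refl : C ≃ₐ[C] C) lam) := by
      ext i j
      simp only [Matrix.map_apply, Matrix.smul_apply, smul_eq_mul, map_mul]
      simp [δ]
    rw [e, Matrix.transpose_smul, Matrix.smul_mul, Matrix.smul_mul, Matrix.mul_smul, E₂, smul_smul,
      ← hXC C ψ h']
    ext i j
    simp only [Matrix.map_apply, Matrix.smul_apply, map_smul, smul_eq_mul]
    rw [Algebra.smul_def, ← mul_assoc, map_mul]
    calc δ * δ * (algebraMap B (C ⊗[B] A) ↑m₁ * algebraMap B (C ⊗[B] A) ↑m₁) * tmap ψ A (hX h' i j) =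
          (δ * algebraMap B (C ⊗[B] A) ↑m₁) * (δ * algebraMap B (C ⊗[B] A) ↑m₁) * tmap ψ A (hX h' i j) := by ring
      _ = _ := by rw [hδ, one_mul, one_mul]

end Groth.Agent.HermSpread
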