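import Groth.Agent.HermSpread.Descend
import Mathlib.RingTheory.MvPolynomial.Localization
import Mathlib.RingTheory.Localization.Ideal
import Mathlib.RingTheory.Localization.AtPrime.Basic

/-!
# Adjoining square roots commutes with localization

`S[X]/(X² - a/t)` is the localization of `B[X]/(tX² - a)`; consequently data over an open cover of
the former spreads out to some basic open of `B`.
-/

set_option autoImplicit false

universe u v

open MvPolynomial

namespace Groth.Agent.HermSpread

variable {B : Type u} [CommRing B] {l : ℕ}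

/-- The relations `tX² - a`. -/
noncomputable abbrev relIdeal (a t : Fin l → B) : Ideal (MvPolynomial (Fin l) B) :=
  Ideal.span (Set.range fun k => C (t k) * X k ^ 2 - C (a k))

/-- `B[X]/(tX² - a)`. -/
abbrev Root (a t : Fin l → B) : Type u := MvPolynomial (Fin l) B ⧸ relIdeal a t

/-- The relations `X² - s`. -/
noncomputable abbrev sqIdeal {S : Type u} [CommRing S] (s : Fin l → S) : Ideal (MvPolynomial (Fin l) S) :=
  Ideal.span (Set.range fun k => X k ^ 2 - C (s k))

/-- The comparison map. -/
noncomputable def toSq (a t : Fin l → B) {S : Type u} [CommRing S] [Algebra B S] (s : Fin l → S)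
    (hs : ∀ k, algebraMap B S (t k) * s k = algebraMap B S (a k)) :
    Root a t →ₐ[B] MvPolynomial (Fin l) S ⧸ sqIdeal s :=
  Ideal.Quotient.liftₐ _ (aeval fun k => (Ideal.Quotient.mk (sqIdeal s) (X k))) (by
    suffices relIdeal a t ≤ RingHom.ker (aeval (R := B) fun k => (Ideal.Quotient.mk (sqIdeal s) (X k))) from
      fun z hz => this hz
    refine Ideal.span_le.2 ?_
    rintro _ ⟨k, rfl⟩
    rw [SetLike.mem_coe, RingHom.mem_ker, map_sub, map_mul, map_pow, aeval_X, aeval_C, aeval_C,
      IsScalarTower.algebraMap_apply B S, IsScalarTower.algebraMap_apply B S _ (a k), ← hs, map_mul,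
      ← mul_sub]
    refine mul_eq_zero_of_right _ ?_
    change Ideal.Quotient.mk (sqIdeal s) (X k) ^ 2 - Ideal.Quotient.mk (sqIdeal s) (C (s k)) = 0
    rw [← map_pow, ← map_sub, Ideal.Quotient.eq_zero_iff_mem]
    exact Ideal.subset_span ⟨k, rfl⟩)

theorem toSq_mk (a t : Fin l → B) {S : Type u} [CommRing S] [Algebra B S] (s : Fin l → S)
    (hs : ∀ k, algebraMap B S (t k) * s k = algebraMap B S (a k)) (z : MvPolynomial (Fin l) B) :
    toSq a t s hs (Ideal.Quotient.mk _ z) = Ideal.Quotient.mk _ (MvPolynomial.map (algebraMap B S) z) := by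
  have : (toSq a t s hs).comp (Ideal.Quotient.mkₐ B (relIdeal a t)) =
      (Ideal.Quotient.mkₐ B (sqIdeal s)).comp (MvPolynomial.mapAlgHom (Algebra.ofId B S)) :=
    MvPolynomial.algHom_ext fun k => by simp [toSq]
  exact DFunLike.congr_fun this z

theorem isLocalization_toSq (a t : Fin l → B) {S : Type u} [CommRing S] [Algebra B S] (s : Fin l → S)
    (hs : ∀ k, algebraMap B S (t k) * s k = algebraMap B S (a k)) (M : Submonoid B) [IsLocalization M S]
    (ht : ∀ k, t k ∈ M) :
    @IsLocalization _ _ (Algebra.algebraMapSubmonoid (Root a t) M) (MvPolynomial (Fin l) S ⧸ sqIdeal s) _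
      (toSq a t s hs).toRingHom.toAlgebra := by
  letI := (toSq a t s hs).toRingHom.toAlgebra
  letI : Algebra (MvPolynomial (Fin l) B) (MvPolynomial (Fin l) S) := MvPolynomial.algebraMvPolynomial
  have e : Algebra.algebraMapSubmonoid (Root a t) M =
      (M.map (C (σ := Fin l))).map (Ideal.Quotient.mk (relIdeal a t)) := by
    exact (Submonoid.map_map M (Ideal.Quotient.mk (relIdeal a t)).toMonoidHom (C (σ := Fin l)).toMonoidHom).symm
  rw [e]
  refine IsLocalization.of_surjective (M.map (C (σ := Fin l))) (MvPolynomial (Fin l) S)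
    (Ideal.Quotient.mk (relIdeal a t)) Ideal.Quotient.mk_surjective
    (Ideal.Quotient.mk (sqIdeal s)) Ideal.Quotient.mk_surjective ?_ ?_
  · refine RingHom.ext fun z => ?_
    exact (toSq_mk a t s hs z).symm
  · rw [Ideal.mk_ker, Ideal.mk_ker, Ideal.span_le]
    rintro _ ⟨k, rfl⟩
    obtain ⟨d, hd⟩ := (IsLocalization.map_units S ⟨t k, ht k⟩).exists_left_inv
    have h : MvPolynomial.map (algebraMap B S) (C (t k) * X k ^ 2 - C (a k)) ∈
        (relIdeal a t).map (MvPolynomial.map (algebraMap B S)) :=
      Ideal.mem_map_of_mem _ (Ideal.subset_span ⟨k, rfl⟩)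
    have h' := Ideal.mul_mem_left _ (C d) h
    rw [map_sub, map_mul, map_pow, map_X, map_C, map_C, ← hs k, map_mul, ← mul_sub, ← mul_assoc,
      ← map_mul, hd, map_one, one_mul] at h'
    exact h'

theorem exists_num_den {M : Submonoid B} {S : Type u} [CommRing S] [Algebra B S] [IsLocalization M S]
    (s : S) : ∃ a : B, ∃ t ∈ M, algebraMap B S t * s = algebraMap B S a := by
  obtain ⟨⟨a, t⟩, e⟩ := IsLocalization.surj M s
  exact ⟨a, t, t.2, by rw [mul_comm]; exact e⟩

variable {A : Type v} [CommRing A] [Algebra B A] (lam : A ≃ₐ[B] A)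

theorem exists_congr_of_away (p : Ideal B) [p.IsPrime] (a t : Fin l → B)
    (s : Fin l → Localization.AtPrime p)
    (hs : ∀ k, algebraMap B (Localization.AtPrime p) (t k) * s k = algebraMap B _ (a k))
    (ht : ∀ k, t k ∈ p.primeCompl) {n : ℕ} (h h' : Matrix (Fin n) (Fin n) A)
    (f : MvPolynomial (Fin l) (Localization.AtPrime p) ⧸ sqIdeal s)
    (hf : Congr lam (Localization.Away f) h h') :
    ∃ g : Root a t, Associated f (toSq a t s hs g) ∧
      ∃ m ∈ p.primeCompl, ∀ (C : Type u) [CommRing C] [Algebra B C] (φ : Root a t →ₐ[B] C),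
        IsUnit (φ g) → IsUnit (algebraMap B C m) → Congr lam C h h' := by
  let R := Root a t
  let Q := MvPolynomial (Fin l) (Localization.AtPrime p) ⧸ sqIdeal s
  letI : Algebra R Q := (toSq a t s hs).toRingHom.toAlgebra
  haveI : IsScalarTower B R Q := IsScalarTower.of_algebraMap_eq fun x => ((toSq a t s hs).commutes x).symm
  haveI hloc : IsLocalization (Algebra.algebraMapSubmonoid R p.primeCompl) Q :=
    isLocalization_toSq a t s hs p.primeCompl ht
  obtain ⟨⟨g, d⟩, hgd⟩ := IsLocalization.surj (Algebra.algebraMapSubmonoid R p.primeCompl) f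
  have hassoc : Associated f (algebraMap R Q g) :=
    ⟨(IsLocalization.map_units Q d).unit, by rw [IsUnit.unit_spec]; exact hgd⟩
  refine ⟨g, hassoc, ?_⟩
  let T := Localization.Away f
  have hT : IsLocalization.Away (algebraMap R Q g) T :=
    IsLocalization.Away.of_associated hassoc
  haveI : IsLocalization (Algebra.algebraMapSubmonoid Q (Submonoid.powers g)) T := by
    rw [Algebra.algebraMapSubmonoid_powers]
    exact hT
  let X := Localization.Away g
  letI : Algebra X T := (IsLocalization.Away.lift (S := X) g (g := algebraMap R T) (by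
    rw [IsScalarTower.algebraMap_apply R Q T]
    exact hT.algebraMap_isUnit)).toAlgebra
  haveI : IsScalarTower R X T := IsScalarTower.of_algebraMap_eq fun x =>
    (IsLocalization.Away.lift_eq (S := X) g _ x).symm
  haveI : IsScalarTower B R T := IsScalarTower.of_algebraMap_eq (R := B) (S := R) (A := T) fun x => by
    rw [IsScalarTower.algebraMap_apply R Q T, ← IsScalarTower.algebraMap_apply B R Q,
      ← IsScalarTower.algebraMap_apply B Q T]
  haveI : IsScalarTower B X T := IsScalarTower.of_algebraMap_eq (R := B) (S := X) (A := T) fun x => by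
    rw [IsScalarTower.algebraMap_apply B R X, ← IsScalarTower.algebraMap_apply R X T,
      ← IsScalarTower.algebraMap_apply B R T]
  haveI : IsLocalization (Algebra.algebraMapSubmonoid X p.primeCompl) T := by
    have e : Algebra.algebraMapSubmonoid X (Algebra.algebraMapSubmonoid R p.primeCompl) =
        Algebra.algebraMapSubmonoid X p.primeCompl := by
      exact Submonoid.ext fun z => by
        simp [Algebra.algebraMapSubmonoid, Submonoid.mem_map, ← IsScalarTower.algebraMap_apply]
    rw [← e]
    exact IsLocalization.commutes X Q T (Submonoid.powers g) (Algebra.algebraMapSubmonoid R p.primeCompl)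
  haveI : IsLocalizedModule p.primeCompl (IsScalarTower.toAlgHom B X T).toLinearMap :=
    isLocalizedModule_iff_isLocalization.mpr inferInstance
  obtain ⟨m, hm, hC⟩ := exists_congr_descend lam (IsScalarTower.toAlgHom B X T) p.primeCompl h h' hf
  refine ⟨m, hm, fun C _ _ φ hg hmC => hC C (IsLocalization.liftAlgHom (M := Submonoid.powers g) (f := φ) ?_) hmC⟩
  rintro ⟨_, k, rfl⟩
  simpa using hg.pow k

end Groth.Agent.HermSpread
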